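import Cfsg.Agent.H0.TC
set_option maxRecDepth 100000
namespace H0.TCHZ0
open H0
noncomputable def r0 : TC.WTr := (.node (.node (.node (.node (.node (.node (.leaf [0] 0 0 false) (.leaf [12] 12 0 false)) (.leaf [9, 6, 10, 9] 21 2 true)) (.node (.leaf [9, 11, 8] 37 0 false) (.leaf [9, 9] 20 0 true))) (.node (.node (.leaf [2] 1 0 false) (.leaf [9] 8 0 false)) (.node (.leaf [5] 4 0 false) (.leaf [8, 10, 12, 6] 29 3 true)))) (.node (.node (.node (.leaf [12, 0, 12] 51 0 false) (.leaf [10, 8, 11, 12] 28 2 true)) (.node (.leaf [5] 4 0 false) (.leaf [9, 6, 9, 6] 21 0 true))) (.node (.node (.leaf [0, 2, 0, 2, 0, 2, 0, 2, 0, 2, 0, 2, 0, 2, 0] 46 0 true) (.leaf [9] 8 0 false)) (.node (.leaf [0, 2, 0] 45 3 false) (.leaf [12] 12 0 false))))) (.node (.node (.node (.node (.leaf [10, 0, 10] 50 0 false) (.leaf [7] 6 0 false)) (.node (.leaf [3] 3 0 false) (.leaf [10] 10 0 false))) (.node (.node (.leaf [1] 1 1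 false) (.leaf [3, 1, 8, 0, 5] 52 1 true)) (.node (.leaf [3, 4, 3, 5, 7] 32 0 false) (.leaf [8, 3, 9] 37 2 false)))) (.node (.node (.node (.leaf [0, 2, 3] 44 0 false) (.leaf [6] 6 1 false)) (.node (.leaf [4, 12, 3, 5, 9] 42 0 false) (.leaf [6, 12, 11, 9] 28 1 false))) (.node (.node (.leaf [1] 1 1 false) (.leaf [4, 4, 12, 3, 5] 42 5 false)) (.node (.leaf [7] 6 0 false) (.leaf [4, 6, 9, 10, 5] 39 4 true))))))
noncomputable def r1 : TC.WTr := (.node (.node (.node (.node (.node (.node (.leaf [2, 3, 1] 44 1 false) (.leaf [12] 12 0 false)) (.leaf [7] 6 0 false)) (.node (.leaf [4, 3, 5, 7, 5] 32 1 false) (.leaf [8] 8 1 false))) (.node (.node (.leaf [2] 1 0 false) (.leaf [0, 5, 8, 3, 1] 52 4 true)) (.node (.leaf [5] 4 0 false) (.leaf [6, 8, 6, 8] 22 4 false)))) (.node (.node (.node (.leaf [5, 0, 2] 45 2 false) (.leaf [5, 3, 4, 3, 5] 32 5 false)) (.node (.leaf [0, 1, 0] 45 0 true) (.leaf [4, 6, 10, 7,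 5] 40 1 false))) (.node (.node (.leaf [1] 1 1 false) (.leaf [9] 8 0 false)) (.node (.leaf [5, 3, 5, 5, 5, 3, 5, 9] 33 0 false) (.leaf [0, 12, 0] 51 1 false))))) (.node (.node (.node (.node (.leaf [5, 8, 3, 1, 8] 52 5 true) (.leaf [7] 6 0 false)) (.node (.leaf [3] 3 0 false) (.leaf [0, 10, 0] 50 1 false))) (.node (.node (.leaf [0, 5, 0] 45 1 false) (.leaf [9] 8 0 false)) (.node (.leaf [6, 10, 5, 6, 10] 41 2 true) (.leaf [11] 11 0 false)))) (.node (.node (.node (.leaf [2] 1 0 false) (.leaf [6] 6 1 false)) (.node (.leaf [5] 4 0 false) (.leaf [10] 10 0 false))) (.node (.node (.leaf [1] 1 1 false) (.leaf [6, 10, 9, 6] 21 3 true)) (.node (.leaf [12, 11, 9, 10] 28 2 false) (.leaf [4, 10, 8, 7, 5] 39 1 false))))))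
noncomputable def tS : Tr := (.leaf (nat_lit 0xffbda59872d09b1a9d9dcb63efdb5dffff1e8f27b3daecf6bafd8e375644c7affad68e9c09a155f9f9fc655ae887b77ff3b9fab4d31b43b9d6e13465114edcffcb2ed5596566b5339253e0d5f09cafff0a851688c6f0952cccf87cdaaf48eff964b269a59f1aaf69684a1485b70e3fe68341e150b8642e1d48564049ba49ff8cabb9f088c9b89c22b306e9c42a1fff0fb58c87e5a74845a67a8d8f9e856ffb34656b4e9cc22e94c15ce4973c957feb452311a8c46a390231b6239a7833ffa8d26b3328b6968216398822b00113fe47229188e21398a85231328005022ff88442211909c4c2521090a62118803fe000000000000000000000004c2411))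
noncomputable def tJ : Tr := (.leaf (nat_lit 0x400e641a2121c82100e10042128060300238a52010cec10000188004100000044180ac18007080c030000100011304701484181a31806400080210a400c0068000308010844000481134204804002c4300402104a6000a20008b10000010e00080002c00000021940108403101622042208063184000000102c0200000004200046b004000842000000000205800a5294a5294a50000))
noncomputable def tQ : Tr := (.leaf (nat_lit 0x0))
noncomputable def tR : TC.WTr := (.node (.node r0 (.node (.node (.node (.node (.node (.leaf [1, 0, 4] 45 1 true) (.leaf [7] 6 0 false)) (.node (.leaf [5, 9, 4, 4, 12] 42 3 false) (.leaf [8] 8 1 false))) (.node (.node (.leaf [2] 1 0 false) (.leaf [8, 8] 20 0 false)) (.node (.leaf [4] 4 1 false) (.leaf [4, 12, 8, 5] 38 1 false)))) (.node (.node (.node (.leaf [2] 1 0 false) (.leaf [7, 7, 7] 19 0 true)) (.node (.leaf [3, 5, 3, 4, 6] 32 1 true) (.leaf [8, 7, 5, 12, 4] 39 3 false))) (.node (.node (.leaf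 [1] 1 1 false) (.leaf [8] 8 1 false)) (.node (.leaf [4] 4 1 false) (.leaf [8, 12, 8] 27 1 false))))) (.node (.node (.node (.node (.leaf [2, 0, 5] 45 0 false) (.leaf [6] 6 1 false)) (.node (.leaf [3] 3 0 false) (.leaf [8, 11, 12, 7] 28 3 true))) (.node (.node (.leaf [3, 9, 4, 0, 9] 52 2 false) (.leaf [9] 8 0 false)) (.node (.leaf [5, 5, 3, 5, 9, 5, 5, 3] 33 3 false) (.leaf [11] 11 0 false)))) (.node (.node (.node (.leaf [2] 1 0 false) (.leaf [6] 6 1 false)) (.node (.leaf [5] 4 0 false) (.leaf [11] 11 0 false))) (.node (.node (.leaf [3] 3 0 false) (.leaf [6, 9, 6, 10] 21 1 true)) (.node (.leaf [4, 3, 5, 3, 4] 32 0 true) (.leaf [3, 5, 9, 4, 4] 42 2 false))))))) (.node r1 (.node (.node (.node (.node (.node (.leaf [11, 0, 11] 49 0 false) (.leaf [7] 6 0 false)) (.node (.leaf [3] 3 0 false) (.leaf [8] 8 1 false))) (.node (.node (.leaf [2] 1 0 false) (.leaf [5, 11, 4, 12] 38 4 false)) (.node (.leaf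 [11, 4, 12, 8] 38 0 false) (.leaf [10, 11, 10] 13 1 false)))) (.node (.node (.node (.leaf [8, 0, 5, 8, 3] 52 3 true) (.leaf [6] 6 1 false)) (.node (.leaf [3, 12, 5, 5, 8] 42 1 true) (.leaf [7, 8, 7, 8] 21 4 false))) (.node (.node (.leaf [1] 1 1 false) (.leaf [11, 8, 3] 37 1 false)) (.node (.leaf [4] 4 1 false) (.leaf [6, 12, 8, 7, 11] 30 1 true))))) (.node (.node (.node (.node (.leaf [9, 2, 3, 9, 4] 52 0 false) (.leaf [9, 7, 11, 9] 22 2 true)) (.node (.leaf [3] 3 0 false) (.leaf [9, 11, 7, 12] 29 4 false))) (.node (.node (.leaf [2, 2, 2, 2, 2, 2] 43 0 true) (.leaf [9] 8 0 false)) (.node (.leaf [8, 4, 3, 12, 5] 42 5 true) (.leaf [11] 11 0 false)))) (.node (.node (.node (.leaf [2] 1 0 false) (.leaf [6] 6 1 false)) (.node (.leaf [5] 4 0 false) (.leaf [0, 11, 0] 49 1 false))) (.node (.node (.leaf [1, 0, 2] 44 3 false) (.leaf [4, 0, 9, 2, 3] 52 4 false)) (.node (.leaf [6, 6, 6] 19 0 false) (.leaf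 [5, 11, 4, 9] 38 1 true))))))))
def hl : List ℕ := [3, 4, 5, 5, 4, 6, 7, 7, 6, 8, 9, 9, 8, 10, 11, 12]
def B : List (List ℕ) := [[0, 0], [1, 2], [2, 1], [3, 3], [4, 5], [5, 4], [6, 7], [7, 6], [8, 9], [9, 8], [10, 10], [11, 11], [12, 12], [10, 11, 10, 11], [10, 11, 10, 11], [10, 12, 10, 12], [10, 12, 10, 12], [11, 12, 11, 12], [11, 12, 11, 12], [6, 6, 6, 6], [8, 8, 8], [7, 8, 7, 8, 10], [6, 8, 6, 8, 11], [6, 9, 7, 8, 6, 12], [6, 8, 6, 8, 6, 8, 6, 8], [6, 8, 7, 9, 6, 8, 7, 9, 6, 8, 7, 9], [6, 9, 6, 9, 6, 9, 6, 9], [8, 12, 8, 12], [9, 10, 6, 12, 11], [9, 11, 7, 12, 10], [6, 9, 12, 7, 12, 11], [4, 4, 4, 4, 4, 4, 4], [5, 3, 4, 3, 5, 7], [5, 5, 3, 5, 5, 5, 3, 5, 9], [3, 4, 3, 4, 3, 4, 3, 4, 3, 4, 3, 4, 3, 4], [3, 4, 3, 5, 3, 4, 3, 5, 3, 4, 3, 5], [3, 5, 3, 5, 3, 5, 3, 5, 3, 5, 3, 5, 3, 5], [3, 9, 11, 8], [5, 11, 4, 12, 8], [5, 12, 4, 10, 8, 7], [5, 10, 4, 6, 10, 7], [4, 10, 7, 4, 10, 7], [4, 4,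 12, 3, 5, 9], [1, 1, 1, 1, 1, 1, 1], [1, 0, 2, 3], [0, 2, 0, 5], [0, 1, 0, 1, 0, 1, 0, 1, 0, 1, 0, 1, 0, 1, 0, 1], [0, 1, 0, 2, 0, 1, 0, 2, 0, 1, 0, 2, 0, 1, 0, 2], [0, 2, 0, 2, 0, 2, 0, 2, 0, 2, 0, 2, 0, 2, 0, 2], [0, 11, 0, 11], [0, 10, 0, 10], [0, 12, 0, 12], [0, 9, 2, 3, 9, 4]]
def subs : List (List ℕ) := [[3], [4], [5], [6], [7], [8], [9], [10], [11], [12]]
def ex : List (List ℕ) := []
def inv (x : ℕ) : ℕ := [0, 2, 1, 3, 5, 4, 7, 6, 9, 8, 10, 11, 12].getD x 0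
noncomputable def rS : ℕ → ℕ := rowOf tS (nat_lit 7) (nat_lit 127) (nat_lit 126) (nat_lit 85070591730234615865843651857942052863)
noncomputable def rJ : ℕ → ℕ := rowOf tJ (nat_lit 7) (nat_lit 127) (nat_lit 75) (nat_lit 37778931862957161709567)
noncomputable def C : TC.Cfg where
  S := look rS (nat_lit 9) (nat_lit 511)
  J := look rJ (nat_lit 5) (nat_lit 31)
  Q := lookQ tQ (nat_lit 7) (nat_lit 1) (nat_lit 1)
  R := tR.get
  hl := fun x => hl.contains x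
  n := (nat_lit 16)
  M := (nat_lit 16)
  top := (nat_lit 432)
  nl := (nat_lit 13)
  need := (nat_lit 13)
  nr := (nat_lit 10)
theorem k0 : TC.chkRange C 0 1 = true := by decide +kernel
theorem rows0 : ∀ c < (0 + 1) * 64, c < C.M → TC.chkRow C c = true :=
  TC.rows_step (TC.rows_zero C) k0
theorem main {G : Type*} [Group G] (g : ℕ → G) (hB : ∀ r ∈ B, ev g r = 1) (H : Subgroup G)
    (hH : ∀ w ∈ subs, ev g w ∈ H) :
    H.relIndex (Subgroup.closure (g '' {x | x < 13})) ≠ 0 ∧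
      H.relIndex (Subgroup.closure (g '' {x | x < 13})) ≤ 16 :=
  TC.index_le C B subs ex inv hl tR.hint rfl (by decide +kernel) (by decide +kernel)
    (TC.rows_done rows0 (by decide +kernel)) g hB H hH
end H0.TCHZ0
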